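import Groth.Agent.Props.GenBox
import Groth.Agent.PicLaw.Mumford
import Groth.Agent.PicLaw.Calc
import Mathlib.AlgebraicGeometry.Morphisms.Proper
import Mathlib.FieldTheory.IsAlgClosed.Basic
import Mathlib.CategoryTheory.Monoidal.Cartesian.Over

/-!
# Translates of a line bundle with an affine nonvanishing locus separate points of complete varieties

If the translates of `l` by the points of an integral proper `K`-scheme `C` mapped to a group scheme
all differ from one class by classes from `C`, then the map from `C` is constant.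
-/

set_option autoImplicit false
set_option backward.isDefEq.respectTransparency.types false

universe u

open CategoryTheory MonoidalCategory CartesianMonoidalCategory MonObj AlgebraicGeometry TopologicalSpace

noncomputable section

namespace Groth.Agent.AbExt

open Groth.Agent.Props.GenLocus Groth.Agent.Props.GenTensor
open scoped Groth.Agent.PicLaw
open PicLaw (pl)
open PicLaw.Mumford (op op_comp)

theorem genLocus_comp {X : Scheme.{u}} {L M : X.Modules} (s : Coh.structureModule X ⟶ L) (e : L ⟶ M)
    [IsIso e] : CohB1.genLocus M (s ≫ e) = CohB1.genLocus L s := by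
  show sSup _ = sSup _
  congr 1
  refine Set.ext fun W => ?_
  simp only [Set.mem_ofPred_eq, Functor.map_comp, isIso_comp_right_iff]

/-- The class of the first tensor power. -/
theorem cls_tensorPow_one {X : Scheme.{u}} {L : X.Modules} (hL : PicF.IsInvertible L) :
    ∃ h : PicF.IsInvertible (CohB1.tensorPow L 1), PicGrp.cls (CohB1.tensorPow L 1) h = PicGrp.cls L hL :=
  ⟨PicLaw.isInvertible_tensor (PicLoc.isInvertible_structureModule X) hL, by
    refine (PicLaw.cls_tensor (PicLoc.isInvertible_structureModule X) hL).trans ?_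
    rw [PicLaw.cls_one, _root_.one_mul]⟩

variable {T : Scheme.{u}} {B Co Ko : Over T} [GrpObj B]

/-- The symmetric relation of a family of translates. -/
theorem op_mul_op_inv_eq_one (p : Co ⟶ Ko) (q : Ko ⟶ Co) (hq : q ≫ p = 𝟙 Ko)
    (hK : ∀ c : PicLoc.PicSet Ko.left, c = 1) (jc : Co ⟶ B) (l m : PicLoc.PicSet B.left)
    (μc : PicLoc.PicSet Co.left)
    (h : op (fst B Co * (snd B Co ≫ jc)) l = op (fst B Co) m * op (snd B Co) μc) :
    op ((p ≫ q ≫ jc)⁻¹ * jc) l * op ((p ≫ q ≫ jc)⁻¹ * jc)⁻¹ l = 1 := by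
  have hc : ∀ {Z : Scheme.{u}} (v : Ko.left ⟶ Z) (c : PicLoc.PicSet Z), pl (p.left ≫ v) c = 1 := fun v c => by
    rw [PicLaw.pl_comp, hK (pl v c), map_one]
  have hcst : ∀ (v : Ko ⟶ B) (c : PicLoc.PicSet B.left), op (p ≫ v) c = 1 := fun v c => hc v.left c
  set k₀ : Co ⟶ B := p ≫ q ≫ jc with hk₀
  have h1 : ∀ a : Co ⟶ B, op (a * jc) l = op a m * μc := by
    intro a
    have e := congrArg (op (lift a (𝟙 Co))) h
    simp only [map_mul, ← op_comp, MonObj.comp_mul, lift_fst, lift_snd_assoc, Category.id_comp, lift_snd] at e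
    exact e.trans (congrArg (op a m * ·) (PicLaw.pl_id μc))
  have h2 : ∀ a : Co ⟶ B, op (a * k₀) l = op a m := by
    intro a
    have e := congrArg (op (lift a (p ≫ q))) h
    simp only [map_mul, ← op_comp, MonObj.comp_mul, lift_fst, lift_snd_assoc, lift_snd, Category.assoc] at e
    rw [hk₀, e, show op (p ≫ q) μc = 1 from hc q.left μc, _root_.mul_one]
  have hone : op (1 : Co ⟶ B) l = 1 := by
    rw [← MonObj.comp_one (M := B) p]; exact hcst 1 l
  have h3 : μc = op jc l := by
    have e1 := h1 1
    have e2 := h2 1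
    rw [_root_.one_mul] at e1 e2
    rw [e1, ← e2, show op k₀ l = 1 from hcst (q ≫ jc) l, _root_.one_mul]
  have h4 : ∀ b : Co ⟶ B, op (b * (k₀⁻¹ * jc)) l = op b l * op jc l := by
    intro b
    rw [← _root_.mul_assoc, h1, ← h2, inv_mul_cancel_right, h3]
  have h5 : op (k₀⁻¹ * jc) l = op jc l := by
    have e := h4 1
    rwa [_root_.one_mul, hone, _root_.one_mul] at e
  have h6 := h4 (k₀⁻¹ * jc)⁻¹
  rw [inv_mul_cancel, hone] at h6
  rw [h5, _root_.mul_comm]
  exact h6.symm

/-- A symmetric pair of pullbacks of a line bundle with affine nonvanishing locus forces constancy. -/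
theorem eq_const (K : Type u) [_root_.Field K] [IsAlgClosed K] [IsIntegral Co.left]
    {x : Spec (CommRingCat.of K) ⟶ T} (p : Co ⟶ Over.mk x) [UniversallyClosed p.left]
    (q : Over.mk x ⟶ Co) (hq : q ≫ p = 𝟙 _)
    (c : Co ⟶ B) {L : B.left.Modules} (hL : PicF.IsInvertible L)
    (hc : op c (PicGrp.cls L hL) * op c⁻¹ (PicGrp.cls L hL) = 1)
    (s : Coh.structureModule B.left ⟶ CohB1.tensorPow L 1) (hU : IsAffineOpen (CohB1.genLocus _ s))
    (hqc : ∀ o : (Over.mk x).left, (q ≫ c).left o ∈ CohB1.genLocus _ s ∧ (q ≫ c⁻¹).left o ∈ CohB1.genLocus _ s) :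
    c = p ≫ q ≫ c := by
  obtain ⟨r, hr⟩ := Props.GenBox.exists_box c.left (c⁻¹).left hL hL s s
  have hB := Props.GenBox.isInvertible_box c.left (c⁻¹).left hL hL
  obtain ⟨hP, eP⟩ := cls_tensorPow_one hB
  obtain ⟨ψ⟩ := (PicGrp.cls_eq_one_iff hP).mp (by
    rw [eP]
    refine (PicLaw.cls_tensor (PicLoc.isInvertible_pullback _ hL) (PicLoc.isInvertible_pullback _ hL)).trans ?_
    rw [PicLaw.cls_pullback, PicLaw.cls_pullback]
    exact hc)
  have hloc := (genLocus_comp r ψ.hom).trans hr
  obtain ⟨f, hf, -⟩ := (isGen_one (X := Co.left) ⊤).exists_eq le_rfl (sec (r ≫ ψ.hom) ⊤)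
  rw [Groth.Agent.QCoh.res_self] at hf
  have hinf := genLocus_inf (isGen_one (X := Co.left) ⊤) (r ≫ ψ.hom) hf
  rw [inf_top_eq, hloc] at hinf
  have htop : Co.left.basicOpen f = ⊤ := by
    let o : (Over.mk x).left := IsLocalRing.closedPoint K
    have ho : q.left o ∈ Co.left.basicOpen f := by
      rw [← hinf]
      have := hqc o
      exact ⟨this.1, this.2⟩
    have hne : f ≠ 0 := by
      intro h0
      rw [h0, Scheme.basicOpen_zero] at ho
      exact ho
    obtain ⟨g, hg⟩ := (isField_of_universallyClosed K p.left).mul_inv_cancel hne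
    exact Scheme.basicOpen_of_isUnit _ (IsUnit.of_mul_eq_one g hg)
  have hsub : ∀ w : Co.left, c.left w ∈ CohB1.genLocus _ s := fun w => by
    have : w ∈ Co.left.basicOpen f := by rw [htop]; exact Opens.mem_top w
    rw [← hinf] at this
    exact this.1
  let d : Co.left ⟶ (CohB1.genLocus _ s).toScheme :=
    IsOpenImmersion.lift (CohB1.genLocus _ s).ι c.left (by
      rw [Scheme.Opens.range_ι]
      rintro _ ⟨w, rfl⟩
      exact hsub w)
  have hd : d ≫ (CohB1.genLocus _ s).ι = c.left := IsOpenImmersion.lift_fac _ _ _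
  have : IsAffine (CohB1.genLocus _ s).toScheme := hU
  have hfld := isField_of_universallyClosed K p.left
  have : IsAffine (Over.mk x).left := inferInstanceAs (IsAffine (Spec (CommRingCat.of K)))
  have hdd : d = p.left ≫ q.left ≫ d := by
    refine ext_of_isAffine ?_
    have e1 : (p.left ≫ q.left).appTop = 𝟙 Γ(Co.left, ⊤) := by
      have e2 : p.left.appTop ≫ (p.left ≫ q.left).appTop = p.left.appTop := by
        rw [← Scheme.Hom.comp_appTop, Category.assoc,
          show q.left ≫ p.left = 𝟙 _ from congrArg CommaMorphism.left hq, Category.comp_id]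
      have hint : ((Scheme.ΓSpecIso (CommRingCat.of K)).inv ≫ p.left.appTop).hom.IsIntegral := by
        apply RingHom.isIntegral_respectsIso.2 (e := (Scheme.ΓSpecIso (CommRingCat.of K)).symm.commRingCatIsoToRingEquiv)
        exact isIntegral_appTop_of_universallyClosed p.left
      have : IsIso ((Scheme.ΓSpecIso (CommRingCat.of K)).inv ≫ p.left.appTop) :=
        (ConcreteCategory.isIso_iff_bijective _).mpr (IsAlgClosed.ringHom_bijective_of_isIntegral _ hint)
      have : IsIso p.left.appTop := IsIso.of_isIso_comp_left (Scheme.ΓSpecIso (CommRingCat.of K)).inv _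
      rw [← cancel_epi p.left.appTop, e2, Category.comp_id]
    rw [← Category.assoc, Scheme.Hom.comp_appTop, e1, Category.comp_id]
  refine Over.OverMorphism.ext ?_
  show c.left = p.left ≫ q.left ≫ c.left
  rw [← hd]
  conv_lhs => rw [hdd]
  simp only [Category.assoc]

end Groth.Agent.AbExt
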