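import Groth.Agent.AbSch51.Fibre
import Mathlib.AlgebraicGeometry.Morphisms.ClosedImmersion
import Mathlib.AlgebraicGeometry.Morphisms.FlatMono

/-!
# Points of exact order
-/

set_option autoImplicit false
set_option backward.isDefEq.respectTransparency.types false

universe u

open CategoryTheory CategoryTheory.Limits MonoidalCategory CartesianMonoidalCategory MonObj AlgebraicGeometry
open TopologicalSpace

noncomputable section

namespace Groth.Agent.AbExt.ExactOrder

variable {S : Scheme.{u}}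

theorem exists_scheme (E : Over S) [GrpObj E] (hsm : Smooth E.hom) (hpr : IsProper E.hom)
    (hconn : GeometricallyConnected E.hom) (N : ℕ) (hN : 1 ≤ N) (hNu : IsUnit (N : Γ(S, ⊤))) :
    ∃ (Z : Over S) (P : Z ⟶ E), IsFinite Z.hom ∧ Etale Z.hom ∧
      (P ^ N = 1 ∧ ∀ (Ω : Type u) [Field Ω] [IsAlgClosed Ω] (t : Spec (CommRingCat.of Ω) ⟶ Z.left),
        orderOf ((Over.homMk t rfl : Over.mk (t ≫ Z.hom) ⟶ Z) ≫ P) = N) ∧
      ∀ (T : Over S) (Q : T ⟶ E), Q ^ N = 1 →
        (∀ (Ω : Type u) [Field Ω] [IsAlgClosed Ω] (t : Spec (CommRingCat.of Ω) ⟶ T.left),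
          orderOf ((Over.homMk t rfl : Over.mk (t ≫ T.hom) ⟶ T) ≫ Q) = N) →
        ∃! v : T ⟶ Z, v ≫ P = Q := by
  classical
  have h3 := AbSch51.zpow_finite_etale_surjective E (N : ℤ) (by simpa using hNu)
  rw [zpow_natCast] at h3
  obtain ⟨hfin, het, -⟩ := h3
  let m : E ⟶ E := 𝟙 E ^ N
  let eS : (𝟙_ (Over S)).left ⟶ E.left := η[E].left
  have heS : eS ≫ E.hom = 𝟙 S := Over.w η[E]
  let K : Over S := Over.mk (pullback.snd m.left eS : pullback m.left eS ⟶ S)
  have : IsFinite m.left := hfin
  have : Etale m.left := het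
  have : IsFinite K.hom := inferInstanceAs (IsFinite (pullback.snd m.left eS))
  have : Etale K.hom := inferInstanceAs (Etale (pullback.snd m.left eS))
  let P₀ : K ⟶ E := Over.homMk (pullback.fst m.left eS) (by
    show pullback.fst m.left eS ≫ E.hom = pullback.snd m.left eS
    rw [← Over.w m, pullback.condition_assoc, heS]
    exact Category.comp_id _)
  have hpow : ∀ {T : Over S} (Q : T ⟶ E) (d : ℕ), Q ≫ (𝟙 E ^ d) = Q ^ d := fun Q d => by
    rw [MonObj.comp_pow, Category.comp_id]
  have hP₀ : P₀ ^ N = 1 := by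
    rw [← hpow, Hom.one_def]
    refine Over.OverMorphism.ext ?_
    show pullback.fst m.left eS ≫ m.left = (toUnit K).left ≫ eS
    rw [pullback.condition, Over.toUnit_left]
    rfl
  have hlift : ∀ {T : Over S} (Q : T ⟶ E), Q ^ N = 1 → ∃ v : T ⟶ K, v ≫ P₀ = Q := by
    intro T Q hQ
    rw [← hpow, Hom.one_def] at hQ
    have h := congrArg Over.Hom.left hQ
    rw [Over.comp_left, Over.comp_left, Over.toUnit_left] at h
    exact ⟨Over.homMk (pullback.lift Q.left T.hom h) (pullback.lift_snd _ _ _),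
      Over.OverMorphism.ext (pullback.lift_fst _ _ _)⟩
  have huniq : ∀ {T : Over S} (v w : T ⟶ K), v ≫ P₀ = w ≫ P₀ → v = w := by
    intro T v w h
    exact Over.OverMorphism.ext (pullback.hom_ext (congrArg Over.Hom.left h)
      ((Over.w v).trans (Over.w w).symm))
  -- the unit point of the kernel
  obtain ⟨e, he⟩ := hlift (1 : 𝟙_ (Over S) ⟶ E) (one_pow N)
  have hew : e.left ≫ K.hom = 𝟙 S := Over.w e
  have : IsImmersion (e.left ≫ K.hom) := by rw [hew]; exact inferInstanceAs (IsImmersion (𝟙 S))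
  have : Etale (e.left ≫ K.hom) := by rw [hew]; exact inferInstanceAs (Etale (𝟙 S))
  have : IsClosedImmersion (e.left ≫ K.hom) := by rw [hew]; exact inferInstanceAs (IsClosedImmersion (𝟙 S))
  have : IsClosedImmersion e.left := IsClosedImmersion.of_comp e.left K.hom
  have : Etale e.left := Etale.of_comp e.left K.hom
  have hopen : IsOpen (Set.range e.left) := e.left.isOpenMap.isOpen_range
  have hclosed : IsClosed (Set.range e.left) := e.left.isClosedEmbedding.isClosed_range
  -- the locus of a smaller order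
  choose md hmd using fun d : ℕ => hlift (P₀ ^ d) (by rw [← pow_mul, _root_.mul_comm, pow_mul, hP₀, one_pow])
  let W : ℕ → Set K.left := fun d => (md d).left ⁻¹' Set.range e.left
  have hWiff : ∀ (d : ℕ) (Ω : Type u) [Field Ω] (T : Over S) (_ : T.left = Spec (CommRingCat.of Ω))
      (s : T ⟶ K), (s ≫ P₀) ^ d = 1 ↔ ∀ o, s.left o ∈ W d := by
    intro d Ω _ T hT s
    have hs : (s ≫ P₀) ^ d = (s ≫ md d) ≫ P₀ := by rw [Category.assoc, hmd, MonObj.comp_pow]
    rw [hs]
    constructor
    · intro h o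
      have h1 : s ≫ md d = toUnit T ≫ e := huniq _ _ (by
        rw [h, Category.assoc, he, MonObj.comp_one])
      refine ⟨(toUnit T).left o, ?_⟩
      rw [← Scheme.Hom.comp_apply, ← Over.comp_left, ← h1]
      rfl
    · intro h
      have : IsOpenImmersion e.left := IsOpenImmersion.of_flat_of_mono e.left
      let l : T.left ⟶ (𝟙_ (Over S)).left := IsOpenImmersion.lift e.left (s ≫ md d).left (by
        rintro _ ⟨o, rfl⟩
        exact h o)
      have hl : l ≫ e.left = (s ≫ md d).left := IsOpenImmersion.lift_fac _ _ _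
      have hl' : l = T.hom := by
        have h2 := congrArg (· ≫ K.hom) hl
        simp only [Category.assoc, hew] at h2
        exact (Category.comp_id l).symm.trans (h2.trans (Over.w (s ≫ md d)))
      have h1 : s ≫ md d = toUnit T ≫ e := Over.OverMorphism.ext (by
        rw [Over.comp_left, Over.comp_left, Over.toUnit_left, ← hl', hl, Over.comp_left])
      rw [h1, Category.assoc, he, MonObj.comp_one]
  let U : Set K.left := ⋂ d ∈ Finset.Ico 1 N, (W d)ᶜ
  have hUo : IsOpen U := isOpen_biInter_finset fun d _ => (hclosed.preimage (md d).left.continuous).isOpen_compl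
  have hUc : IsClosed U := isClosed_biInter fun d _ => (hopen.preimage (md d).left.continuous).isClosed_compl
  let Uo : K.left.Opens := ⟨U, hUo⟩
  let Z : Over S := Over.mk (Uo.ι ≫ K.hom)
  let i : Z ⟶ K := Over.homMk Uo.ι rfl
  have : IsClosedImmersion Uo.ι := IsClosedImmersion.of_isPreimmersion Uo.ι (by
    rw [Scheme.Opens.range_ι]; exact hUc)
  have hmem : ∀ (Ω : Type u) [Field Ω] (T : Over S) (_ : T.left = Spec (CommRingCat.of Ω)) (s : T ⟶ K),
      orderOf (s ≫ P₀) = N ↔ ∀ o, s.left o ∈ U := by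
    intro Ω _ T hT s
    have hN' : (s ≫ P₀) ^ N = 1 := by rw [← MonObj.comp_pow, hP₀, MonObj.comp_one]
    rw [orderOf_eq_iff (by omega)]
    simp only [hN', true_and, ne_eq]
    have hne : Nonempty T.left := by rw [hT]; exact inferInstanceAs (Nonempty (PrimeSpectrum Ω))
    have hsub : Subsingleton T.left := by rw [hT]; exact inferInstanceAs (Subsingleton (PrimeSpectrum Ω))
    constructor
    · intro h o
      simp only [U, Set.mem_iInter, Finset.mem_Ico, Set.mem_compl_iff]
      intro d hd hmem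
      exact h d hd.2 (by omega) ((hWiff d Ω T hT s).mpr fun o' => Subsingleton.elim o o' ▸ hmem)
    · intro h d hd hd0 heq
      obtain ⟨o⟩ := hne
      have := h o
      simp only [U, Set.mem_iInter, Finset.mem_Ico, Set.mem_compl_iff] at this
      exact this d ⟨by omega, hd⟩ ((hWiff d Ω T hT s).mp heq o)
  refine ⟨Z, i ≫ P₀, inferInstanceAs (IsFinite (Uo.ι ≫ K.hom)), inferInstanceAs (Etale (Uo.ι ≫ K.hom)),
    ⟨by rw [← MonObj.comp_pow, hP₀, MonObj.comp_one], fun Ω _ _ t => ?_⟩, fun T Q hQ hord => ?_⟩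
  · rw [← Category.assoc]
    exact (hmem Ω (Over.mk (t ≫ Z.hom)) rfl (Over.homMk t rfl ≫ i)).mpr fun o => (t o).2
  · obtain ⟨v, hv⟩ := hlift Q hQ
    have hr : Set.range v.left ⊆ Set.range Uo.ι := by
      rintro _ ⟨x, rfl⟩
      rw [Scheme.Opens.range_ι]
      let Ω := AlgebraicClosure (T.left.residueField x)
      let t : Spec (CommRingCat.of Ω) ⟶ T.left :=
        Spec.map (CommRingCat.ofHom (algebraMap (T.left.residueField x) Ω)) ≫ T.left.fromSpecResidueField x
      have h := hord Ω t
      rw [← hv, ← Category.assoc] at h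
      obtain ⟨o⟩ : Nonempty ↥(Spec (CommRingCat.of Ω)) := inferInstanceAs (Nonempty (PrimeSpectrum Ω))
      have h' := (hmem Ω (Over.mk (t ≫ T.hom)) rfl _).mp h o
      have ht : t o = x := (Scheme.Hom.comp_apply (Spec.map (CommRingCat.ofHom (algebraMap (T.left.residueField x) Ω)))
        (T.left.fromSpecResidueField x) o).trans (Scheme.fromSpecResidueField_apply _ _)
      rw [Over.comp_left, Scheme.Hom.comp_apply] at h'
      rw [← ht]
      exact h'
    have hl : IsOpenImmersion.lift Uo.ι v.left hr ≫ Uo.ι = v.left := IsOpenImmersion.lift_fac _ _ _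
    let w : T ⟶ Z := Over.homMk (IsOpenImmersion.lift Uo.ι v.left hr) (by
      show _ ≫ Uo.ι ≫ K.hom = T.hom
      rw [reassoc_of% hl]
      exact Over.w v)
    have hw : w ≫ i = v := Over.OverMorphism.ext hl
    refine ⟨w, show w ≫ i ≫ P₀ = Q by rw [reassoc_of% hw, hv], fun w' hw' => ?_⟩
    have h2 : w' ≫ i = w ≫ i := huniq _ _ (by rw [Category.assoc, hw, hv]; exact hw')
    exact Over.OverMorphism.ext ((cancel_mono Uo.ι).mp (congrArg Over.Hom.left h2))

end Groth.Agent.AbExt.ExactOrder
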