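import Groth.Agent.AbDualLib.Primitive
import Groth.Agent.AbDualLib.Transpose
import Groth.Agent.Props.GenPull

/-!
# Frobenius and the homomorphism attached to a line bundle
-/

set_option autoImplicit false
set_option backward.isDefEq.respectTransparency.types false

universe u

open CategoryTheory CategoryTheory.Limits MonoidalCategory CartesianMonoidalCategory MonObj AlgebraicGeometry
open TopologicalSpace

noncomputable section

namespace Groth.Agent.AbExt.FrobLambda

open scoped Groth.Agent.PicLaw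
open PicLaw (pl)
open PicLaw.Mumford (op)

section frobenius

open Groth.Agent.QCoh Groth.Agent.Props.GenLocus Groth.Agent.Props.GenTensor Groth.Agent.Props.GenProd
  Groth.Agent.Props.GenPull

/-- A morphism which is the identity on the space and the `q`-th power on functions pulls an invertible
module back to its `q`-th power. -/
theorem pl_eq_pow {W : Scheme.{u}} (π : W ⟶ W) (q : ℕ) (hb : π.base = 𝟙 _)
    (hle : ∀ U : W.Opens, U ≤ π ⁻¹ᵁ U)
    (happ : ∀ (U : W.Opens) (s : Γ(W, U)), (π.appLE U U (hle U)).hom s = s ^ q)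
    (l : PicLoc.PicSet W) : pl π l = l ^ q := by
  have hpre : ∀ U : W.Opens, π ⁻¹ᵁ U ≤ U := fun U x hx => by
    have hx' : π.base x ∈ U := hx
    rw [hb] at hx'
    exact hx'
  obtain ⟨L, hL, rfl⟩ := PicGrp.exists_eq_cls l
  obtain ⟨hP, eP⟩ := AbVarLib.Bilin.exists_cls_tensorPow hL q
  rw [← PicLaw.cls_pullback π hL, ← eP, PicGrp.cls_eq_cls_iff]
  let Idx := {p : Σ U : W.Opens, Γ(L, U) // IsGen L p.1 p.2}
  refine PicLaw.nonempty_iso_of_transition (fun i : Idx => i.1.1) (fun x => ?_)
    (fun i => res _ (hle _) (pb π i.1.2)) (fun i => (isGen_pb π i.2).restrict _)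
    (fun i => pw L i.1.2 q) (fun i => isGen_pw i.2 q) ?_
  · obtain ⟨U, e, hxU, he⟩ := exists_isGen hL x
    exact ⟨⟨⟨U, e⟩, he⟩, hxU⟩
  rintro ⟨⟨U, e⟩, he⟩ ⟨⟨U', e'⟩, he'⟩ V hi hj
  obtain ⟨u, -, hu⟩ := exists_unit_smul (he.restrict hi) (he'.restrict hj)
  refine ⟨u ^ q, ?_, ?_⟩
  · have h1 := congrArg (res ((Scheme.Modules.pullback π).obj L) (hle V))
      (congrArg (LFFrame.unitSec π L V) hu)
    rw [LFFrame.unitSec_smul, LFFrame.unitSec_res, LFFrame.unitSec_res, res_smul, res_res, res_res] at h1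
    have h2 : rres (hle V) (π.app V u) = u ^ q := happ V u
    rw [h2] at h1
    simp only [res_res]
    exact h1
  · rw [res_pw, res_pw, hu, pw_smul]

end frobenius

variable {S : Scheme.{u}} {A At : Over S} [GrpObj A] [GrpObj At] [GeometricallyConnected A.hom]
  [LocallyOfFiniteType A.hom] [QuasiCompact A.hom] {φ : AgPol.DualMap A At} {K : Precoverage Scheme.{u}}

theorem mum_pow_succ (l : PicLoc.PicSet A.left) {T : Over S} (z : T ⟶ A) (n : ℕ) :
    PicZero.mum A (l ^ (n + 1)) z = PicZero.mum A (l ^ n) z * PicZero.mum A l z := by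
  simp only [PicZero.mum, pow_succ, map_mul]
  rw [div_mul_div_comm, mul_mul_mul_comm (op (fst A T) (l ^ n))]

theorem pt_mum_pow (hφ : AbDual.IsDualAV K A At φ) (l : PicLoc.PicSet A.left) {T : Over S} (z : T ⟶ A) (n : ℕ) :
    φ T (PicZero.mum A (l ^ n) z).1 = φ T (PicZero.mum A l z).1 ^ n := by
  induction n with
  | zero =>
    have : PicZero.mum A ((l : PicLoc.PicSet A.left) ^ 0) z = 1 := by
      simp only [PicZero.mum, pow_zero, map_one, _root_.mul_one, div_one]
    rw [this, PicZero.pt_one hφ, pow_zero]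
  | succ n ih =>
    rw [mum_pow_succ, PicZero.pt_mul hφ _ _ (PicZero.zero_mum A _ z) (PicZero.zero_mum A _ z), ih, pow_succ]

/-- Composition with a transpose is pullback. -/
theorem comp_transpose (hφ : AbDual.IsDualAV K A At φ) (f : A ⟶ A) [IsMonHom f] (ft : At ⟶ At)
    (hft : AbDual.IsTranspose f φ φ ft) (l : PicLoc.PicSet A.left) :
    f ≫ φ A (PicZero.mum A l (𝟙 A)).1 ≫ ft = φ A (PicZero.mum A (op f l) (𝟙 A)).1 := by
  rw [← Category.assoc, ← PicZero.pt_natural hφ f _ (PicZero.zero_mum A l (𝟙 A)), PicZero.op_mum_whisker,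
    Category.comp_id, ← hft A _ (PicZero.zero_mum A l f), AbDualLib.Transpose.pullCl_bcMap]
  refine congrArg (fun c : PicLoc.PicSet (A ⊗ A).left => φ A c.1) ?_
  have hmul : ∀ a b : A ⊗ A ⟶ A, (a * b) ≫ f = a ≫ f * b ≫ f := fun a b => MonObj.mul_comp a b f
  rw [PicZero.op_mum, PicZero.mum, Category.comp_id, ← PicLaw.Mumford.op_comp, ← PicLaw.Mumford.op_comp,
    ← PicLaw.Mumford.op_comp, hmul, whiskerRight_fst, whiskerRight_snd_assoc]

end Groth.Agent.AbExt.FrobLambda
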