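import Groth.Agent.AbDualLib.Rigid
import Groth.Agent.AbDualLib.Primitive
import Groth.Agent.AbRigid.Factor
import Groth.Agent.AbVarLib.Basics
import Groth.Agent.AbSch51.ConstFun
import Groth.Agent.Cube.SeesawThm
import Groth.Agent.AbExt.Main

/-!
# A homomorphism `A → A^t` attached to a line bundle which kills one fibre is trivial
-/

set_option autoImplicit false
set_option backward.isDefEq.respectTransparency.types false

universe u

open CategoryTheory CategoryTheory.Limits MonoidalCategory CartesianMonoidalCategory MonObj AlgebraicGeometry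
open TopologicalSpace

noncomputable section

namespace Groth.Agent.AbExt.LamRigid

open scoped Groth.Agent.PicLaw
open PicLaw (pl)
open PicLaw.Mumford (op)
open Groth.Agent.PicZero (mum zero_mum op_mum_whisker pt_natural pt_one pt_locallyInjective)

variable {S : Scheme.{u}}

/-- The point of `T` at `a`, as an object over the base. -/
abbrev resObj (T : Over S) (a : T.left) : Over S := Over.mk (T.left.fromSpecResidueField a ≫ T.hom)

/-- The tautological point at `a`. -/
abbrev resPt (T : Over S) (a : T.left) : resObj T a ⟶ T := Over.homMk (T.left.fromSpecResidueField a) rfl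

theorem resPt_apply (T : Over S) (a : T.left) (o : (resObj T a).left) : (resPt T a).left o = a :=
  Scheme.fromSpecResidueField_apply _ _

theorem pl_eq_one_of_subsingleton {W : Scheme.{u}} [Subsingleton W] [Nonempty W] (c : PicLoc.PicSet W) : c = 1 := by
  obtain ⟨L, hL, rfl⟩ := PicGrp.exists_eq_cls c
  exact (PicGrp.cls_eq_one_iff hL).mpr (PicLaw.nonempty_iso_of_subsingleton hL)

variable (A At : Over S) [GrpObj A] [GrpObj At] [IsLocallyNoetherian S] [IsProper A.hom] [Smooth A.hom]
  [GeometricallyConnected A.hom]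
  (φ : AgPol.DualMap A At) (hdual : AbDual.IsDualAV Scheme.fppfPrecoverage A At φ)
  (l : PicLoc.PicSet A.left) (lam : A ⟶ At) (hlam : lam = φ A (mum A l (𝟙 A)).1)

include hdual hlam in
theorem comp_lam {T : Over S} (z : T ⟶ A) : z ≫ lam = φ T (mum A l z).1 := by
  rw [hlam, ← pt_natural hdual z _ (zero_mum A _ (𝟙 A)), op_mum_whisker, Category.comp_id]

include hdual hlam in
theorem unit_comp_lam : η[A] ≫ lam = 1 := by
  have hc : ∀ x : (𝟙_ (Over S)).left, ∃ V : (𝟙_ (Over S)).left.Opens, x ∈ V ∧ pl V.ι (op η[A] l) = 1 :=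
    fun x => AbDualLib.Primitive.exists_pl_ι_eq_one _ x
  choose V hxV hV using hc
  refine Over.OverMorphism.ext (Scheme.Cover.hom_ext ((𝟙_ (Over S)).left.openCoverOfIsOpenCover V
    (.mk (top_le_iff.mp fun x _ => Opens.mem_iSup.mpr ⟨x, hxV x⟩))) _ _ fun x => ?_)
  let U : Over S := Over.mk ((V x).ι ≫ (𝟙_ (Over S)).hom)
  let j : U ⟶ 𝟙_ (Over S) := Over.homMk (V x).ι rfl
  have h1 : op (j ≫ η[A]) l = 1 := by rw [PicLaw.Mumford.op_comp]; exact hV x
  have h2 : mum A l (j ≫ η[A]) = 1 := by
    have h0 : snd A U ≫ j ≫ η[A] = 1 := by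
      rw [← Category.assoc, toUnit_unique (snd A U ≫ j) (toUnit _), Hom.one_def]
    rw [mum, PicLaw.Mumford.op_comp (snd A U) (j ≫ η[A]), h1, map_one, h0, _root_.mul_one, _root_.mul_one,
      div_self']
  have h3 : (j ≫ η[A]) ≫ lam = j ≫ 1 := by
    rw [comp_lam A At φ hdual l lam hlam, h2, pt_one hdual, MonObj.comp_one]
  exact congrArg Over.Hom.left ((Category.assoc _ _ _).symm.trans h3)

/-- The fibre of the Mumford class at `a` is trivial. -/
def TrivAt (a : A.left) : Prop := mum A l (resPt A a) = 1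

include hdual hlam in
theorem trivAt_iff (a : A.left) : TrivAt A l a ↔ resPt A a ≫ lam = 1 := by
  rw [comp_lam A At φ hdual l lam hlam, TrivAt]
  refine ⟨fun h => by rw [h, pt_one hdual], fun h => ?_⟩
  obtain ⟨R, hR, hu⟩ := pt_locallyInjective hdual (mum A l (resPt A a)) 1 (zero_mum A _ _)
    (PicZero.zero_one _) (by rw [h, pt_one hdual])
  have : Subsingleton ↥(resObj A a).left :=
    inferInstanceAs (Subsingleton (PrimeSpectrum (A.left.residueField a)))
  have : Nonempty ↥(resObj A a).left :=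
    inferInstanceAs (Nonempty (PrimeSpectrum (A.left.residueField a)))
  exact AbDualLib.Rigid.eq_one_of_fppf_local _ (pl_eq_one_of_subsingleton _) hR
    (fun U u h' => (hu u h').trans (map_one _))

theorem isClosed_trivAt : IsClosed {a : A.left | TrivAt A l a} := by
  obtain ⟨N, hN, hNc⟩ := PicGrp.exists_eq_cls (mum A l (𝟙 A))
  let π := (snd A A).left
  have : GeometricallyIntegral A.hom := AbExt.geometricallyIntegral A
  have : GeometricallyIntegral π := show GeometricallyIntegral (pullback.snd A.hom A.hom) from inferInstance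
  have : IsLocallyNoetherian A.left := LocallyOfFiniteType.isLocallyNoetherian A.hom
  have hint : ∀ z : A.left, IsIntegral (π.fiber z) := fun z =>
    GeometricallyIntegral.geometrically_isIntegral (f := π) _ _ _ (IsPullback.of_hasPullback π (A.left.fromSpecResidueField z))
  suffices h : {a : A.left | TrivAt A l a} =
      {z | Nonempty (CohIII.fiberMod π N z ≅ Coh.structureModule (π.fiber z))} by
    rw [h]; exact Cube.Seesaw.isClosed_trivial π hN hint
  ext a
  have H := (AbDualLib.Rigid.isPullback_whiskerLeft' A (resPt A a)).flip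
  let e : (A ⊗ resObj A a).left ≅ π.fiber a := H.isoPullback
  have he : e.hom ≫ π.fiberι a = (A ◁ resPt A a).left := H.isoPullback_hom_fst
  have h : mum A l (resPt A a) = pl e.hom (pl (π.fiberι a) (PicGrp.cls N hN)) := by
    rw [← hNc, ← PicLaw.pl_comp]
    refine Eq.trans ?_ (PicLaw.pl_congr he.symm _)
    exact (congrArg (mum A l) (Category.comp_id _).symm).trans (op_mum_whisker A l (𝟙 A) (resPt A a)).symm
  show TrivAt A l a ↔ _
  rw [TrivAt, h]
  constructor
  · intro h1
    have h2 := congrArg (pl e.inv) h1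
    rw [← PicLaw.pl_comp, Iso.inv_hom_id, PicLaw.pl_id, map_one, ← PicLaw.cls_pullback _ hN] at h2
    exact (PicGrp.cls_eq_one_iff _).mp h2
  · intro h1
    rw [← PicLaw.cls_pullback _ hN, (PicGrp.cls_eq_one_iff (PicLoc.isInvertible_pullback _ hN)).mpr h1, map_one]

include hdual hlam in
theorem eq_one [ConnectedSpace S] (s₀ : S)
    (h : ∀ a : A.left, A.hom a = s₀ → resPt A a ≫ lam = 1) : lam = 1 := by
  let Sg : Set S := {s | ∀ a : A.left, A.hom a = s → resPt A a ≫ lam = 1}
  have hclosed : IsClosed Sg := by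
    have e : Sg = (A.hom '' {a : A.left | TrivAt A l a}ᶜ)ᶜ := by
      ext s
      simp only [Sg, Set.mem_setOf_eq, Set.mem_compl_iff, Set.mem_image, not_exists, not_and',
        trivAt_iff A At φ hdual l lam hlam, not_not]
    rw [e]
    exact (A.hom.isOpenMap _ (isClosed_trivAt A l).isOpen_compl).isClosed_compl
  have hpt : ∀ s ∈ Sg, ∀ a : A.left, A.hom a = s → lam.left a = (1 : A ⟶ At).left a := by
    intro s hs a ha
    obtain ⟨o⟩ : Nonempty ↥(resObj A a).left :=
      inferInstanceAs (Nonempty (PrimeSpectrum (A.left.residueField a)))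
    have h1 := congrArg (fun f : resObj A a ⟶ At => f.left o) ((hs a ha).trans (MonObj.comp_one (resPt A a)).symm)
    simp only [Over.comp_left, Scheme.Hom.comp_apply] at h1
    rw [← resPt_apply A a o]
    exact h1
  have hO : ∀ V : S.Opens, IsIso (A.hom.app V) := fun V =>
    have := AbDualLib.Rigid.geometricallyReduced_of_smooth A.hom
    (ConcreteCategory.isIso_iff_bijective _).mpr (AbSch51.ConstFun.bijective_app A.hom V)
  have hsurj : Surjective A.hom := ⟨fun s => ⟨η[A].left s, by
    rw [← Scheme.Hom.comp_apply, Over.w η[A]]; rfl⟩⟩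
  have hopen : IsOpen Sg := isOpen_iff_forall_mem_open.mpr fun s hs => by
    obtain ⟨V, hsV, hVf⟩ := AbRigid.Factor.exists_nhd A.hom lam.left hO s (by
      rintro _ ⟨a, ha, rfl⟩ _ ⟨b, hb, rfl⟩
      rw [hpt s hs a ha, hpt s hs b hb, Hom.one_def]
      simp only [Over.comp_left, Over.toUnit_left, Scheme.Hom.comp_apply]
      rw [show A.hom a = s from ha, show A.hom b = s from hb])
    refine ⟨V, fun s' hs' a ha => ?_, V.2, hsV⟩
    have hr : ∀ (p : resObj A a ⟶ A), ∃ g : (resObj A a).left ⟶ (A.hom ⁻¹ᵁ V).toScheme, g ≫ (A.hom ⁻¹ᵁ V).ι = p.left :=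
      fun p => ⟨IsOpenImmersion.lift (A.hom ⁻¹ᵁ V).ι p.left (by
        rw [Scheme.Opens.range_ι]
        rintro _ ⟨o, rfl⟩
        show A.hom (p.left o) ∈ V
        rw [← Scheme.Hom.comp_apply, Over.w p]
        show A.hom (A.left.fromSpecResidueField a o) ∈ V
        rw [Scheme.fromSpecResidueField_apply, ha]
        exact hs'), IsOpenImmersion.lift_fac _ _ _⟩
    obtain ⟨g₁, hg₁⟩ := hr (resPt A a)
    obtain ⟨g₂, hg₂⟩ := hr (toUnit _ ≫ η[A])
    have h1 := hVf _ g₁ g₂ (by
      rw [← cancel_mono V.ι, Category.assoc, Category.assoc, morphismRestrict_ι, reassoc_of% hg₁, reassoc_of% hg₂,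
        Over.w (resPt A a), Over.w (toUnit (resObj A a) ≫ η[A])])
    rw [reassoc_of% hg₁, reassoc_of% hg₂] at h1
    have h2 : resPt A a ≫ lam = (toUnit _ ≫ η[A]) ≫ lam := Over.OverMorphism.ext h1
    rw [h2, Category.assoc, unit_comp_lam A At φ hdual l lam hlam, MonObj.comp_one]
  have huniv : Sg = Set.univ := (isClopen_iff.mp ⟨hclosed, hopen⟩).resolve_left
    (Set.nonempty_iff_ne_empty.mp ⟨s₀, h⟩)
  have htop : ∀ x : (A ⊗ 𝟙_ (Over S)).left,
      (fst A (𝟙_ _) ≫ lam).left x = (snd A _ ≫ AbDualLib.Rigid.sec A _ ≫ fst A (𝟙_ _) ≫ lam).left x := by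
    intro x
    have e : AbDualLib.Rigid.sec A (𝟙_ (Over S)) ≫ fst A (𝟙_ _) ≫ lam = 1 := by
      rw [lift_fst_assoc, Hom.one_def, toUnit_unique (toUnit (𝟙_ (Over S))) (𝟙 _), Category.id_comp,
        unit_comp_lam A At φ hdual l lam hlam]
    rw [e, MonObj.comp_one, ← MonObj.comp_one (fst A (𝟙_ (Over S))), Over.comp_left, Over.comp_left,
      Scheme.Hom.comp_apply, Scheme.Hom.comp_apply]
    exact hpt _ (huniv ▸ Set.mem_univ _) _ rfl
  have h1 := AbDualLib.Rigid.eq_of_top (fst A (𝟙_ (Over S)) ≫ lam) htop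
  have h2 := congrArg ((ρ_ A).inv ≫ ·) h1
  simp only [rightUnitor_inv_fst_assoc] at h2
  rw [h2, lift_fst_assoc, Hom.one_def, toUnit_unique (toUnit (𝟙_ (Over S))) (𝟙 _), Category.id_comp,
    unit_comp_lam A At φ hdual l lam hlam, MonObj.comp_one, MonObj.comp_one]

end Groth.Agent.AbExt.LamRigid
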