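import Groth.Prelude.Def_AbDual
import Mathlib.AlgebraicGeometry.AlgClosed.Basic
import Mathlib.AlgebraicGeometry.Morphisms.QuasiFinite
import Mathlib.Data.ZMod.Basic

/-!
# The `p`-rank is an isogeny invariant
-/

set_option autoImplicit false
set_option backward.isDefEq.respectTransparency.types false

universe u

open CategoryTheory CategoryTheory.Limits MonoidalCategory CartesianMonoidalCategory MonObj AlgebraicGeometry

noncomputable section

namespace Groth.Agent.AbExt.PRank

section counting

variable {A B : Type*} [CommGroup A] [CommGroup B] (φ : A →* B) [Finite φ.ker]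

theorem le_of_iso (n : ℕ) (a b : ℕ) (hA : Nat.card (powMonoidHom n : A →* A).ker = a) (ha : a ≠ 0)
    (hB : Nat.card (powMonoidHom n : B →* B).ker = b) (hb : b ≠ 0) (hφ : Function.Surjective φ) :
    a ≤ Nat.card φ.ker * b ∧ b ≤ Nat.card φ.ker * a := by
  let An := (powMonoidHom n : A →* A).ker
  let Bn := (powMonoidHom n : B →* B).ker
  have : Finite An := Nat.finite_of_card_ne_zero (hA ▸ ha)
  have : Finite Bn := Nat.finite_of_card_ne_zero (hB ▸ hb)
  constructor
  · let ψ : An →* Bn := (φ.comp An.subtype).codRestrict Bn fun x => by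
      show (φ x.1) ^ n = 1
      rw [← map_pow, show x.1 ^ n = 1 from x.2, map_one]
    have hk : Nat.card ψ.ker ≤ Nat.card φ.ker := by
      refine Nat.card_le_card_of_injective (fun x => ⟨x.1.1, ?_⟩) fun x y h => ?_
      · have := congrArg Subtype.val (MonoidHom.mem_ker.mp x.2)
        exact this
      · exact Subtype.ext (Subtype.ext (congrArg (fun z : φ.ker => (z : A)) h))
    rw [← hA, ← hB, ← ψ.ker.card_mul_index, ψ.ker.index_eq_card,
      Nat.card_congr (QuotientGroup.quotientKerEquivRange ψ).toEquiv]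
    exact Nat.mul_le_mul hk (Nat.card_le_card_of_injective _ Subtype.val_injective)
  · let C := φ.ker.comap (powMonoidHom n : A →* A)
    let ψ : C →* φ.ker := ((powMonoidHom n : A →* A).comp C.subtype).codRestrict _ fun x => x.2
    let e : ψ.ker ≃ An :=
      { toFun := fun x => ⟨x.1.1, congrArg Subtype.val (MonoidHom.mem_ker.mp x.2)⟩
        invFun := fun x => ⟨⟨x.1, by show φ ((powMonoidHom n : A →* A) x.1) = 1; rw [x.2, map_one]⟩,
          MonoidHom.mem_ker.mpr (Subtype.ext x.2)⟩
        left_inv := fun x => rfl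
        right_inv := fun x => rfl }
    have : Finite ψ.ker := Finite.of_equiv _ e.symm
    have : Finite (C ⧸ ψ.ker) := Finite.of_equiv _ (QuotientGroup.quotientKerEquivRange ψ).symm.toEquiv
    have : Finite C := Finite.of_subgroup_quotient ψ.ker
    have hC : Nat.card C ≤ Nat.card φ.ker * a := by
      rw [← ψ.ker.card_mul_index, ψ.ker.index_eq_card,
        Nat.card_congr (QuotientGroup.quotientKerEquivRange ψ).toEquiv, Nat.card_congr e, hA, Nat.mul_comm]
      exact Nat.mul_le_mul (Nat.card_le_card_of_injective _ Subtype.val_injective) le_rfl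
    refine le_trans ?_ hC
    rw [← hB]
    refine Nat.card_le_card_of_surjective (fun x : C => (⟨φ x.1, ?_⟩ : Bn)) fun y => ?_
    · show (φ x.1) ^ n = 1
      rw [← map_pow]
      exact x.2
    · obtain ⟨x, hx⟩ := hφ y.1
      refine ⟨⟨x, ?_⟩, Subtype.ext hx⟩
      show φ (x ^ n) = 1
      rw [map_pow, hx]
      exact y.2

theorem rank_le {p i j C : ℕ} (hp : 2 ≤ p) (h : ∀ m, (p ^ m) ^ i ≤ C * (p ^ m) ^ j) : i ≤ j := by
  by_contra hij
  have h1 := h C
  obtain ⟨d, rfl⟩ : ∃ d, i = j + (d + 1) := ⟨i - j - 1, by omega⟩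
  rw [pow_add, Nat.mul_comm C] at h1
  have hpos : 0 < (p ^ C) ^ j := Nat.pow_pos (Nat.pow_pos (by omega))
  have h2 := Nat.le_of_mul_le_mul_left h1 hpos
  have h3 : p ^ C ≤ (p ^ C) ^ (d + 1) := Nat.le_self_pow (by omega) _
  have h4 : C < p ^ C := Nat.lt_pow_self (by omega)
  omega

end counting

variable {k Ω : Type u} [Field k] [Field Ω] [Algebra k Ω] [IsAlgClosed Ω]
  {X Y : Over (Spec (CommRingCat.of k))} (h : X ⟶ Y) [IsFinite h.left]

theorem finite_fibre (y : Over.mk (Spec.map (CommRingCat.ofHom (algebraMap k Ω))) ⟶ Y) :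
    Finite {x : Over.mk (Spec.map (CommRingCat.ofHom (algebraMap k Ω))) ⟶ X // x ≫ h = y} := by
  let P := pullback h.left y.left
  let q : P ⟶ Spec (CommRingCat.of Ω) := pullback.snd h.left y.left
  have : IsFinite q := inferInstanceAs (IsFinite (pullback.snd h.left y.left))
  have : Finite P := by
    have : Subsingleton ↥(Spec (CommRingCat.of Ω)) := inferInstanceAs (Subsingleton (PrimeSpectrum Ω))
    refine Set.finite_univ_iff.mp ((q.finite_preimage_singleton (IsLocalRing.closedPoint Ω)).subset fun x _ => ?_)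
    exact Subsingleton.elim _ _
  have : Finite {p : Spec (CommRingCat.of Ω) ⟶ P // p ≫ q = 𝟙 _} := Finite.of_equiv _ (pointEquivClosedPoint q).symm
  refine Finite.of_injective (fun x => (⟨pullback.lift x.1.left (𝟙 _)
    ((congrArg Over.Hom.left x.2).trans (Category.id_comp _).symm), pullback.lift_snd _ _ _⟩ :
      {p : Spec (CommRingCat.of Ω) ⟶ P // p ≫ q = 𝟙 _})) fun x x' hx => ?_
  refine Subtype.ext (Over.OverMorphism.ext ?_)
  have := congrArg (fun p => p.1 ≫ pullback.fst h.left y.left) hx
  simpa [pullback.lift_fst] using this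

theorem exists_lift [Surjective h.left] (y : Over.mk (Spec.map (CommRingCat.ofHom (algebraMap k Ω))) ⟶ Y) :
    ∃ x : Over.mk (Spec.map (CommRingCat.ofHom (algebraMap k Ω))) ⟶ X, x ≫ h = y := by
  let P := pullback h.left y.left
  let q : P ⟶ Spec (CommRingCat.of Ω) := pullback.snd h.left y.left
  have : IsFinite q := inferInstanceAs (IsFinite (pullback.snd h.left y.left))
  have : Surjective q := inferInstanceAs (Surjective (pullback.snd h.left y.left))
  obtain ⟨z, -⟩ := q.surjective (IsLocalRing.closedPoint Ω)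
  have : JacobsonSpace P := LocallyOfFiniteType.jacobsonSpace q
  obtain ⟨c, -, hc⟩ := nonempty_inter_closedPoints (X := P) (Z := Set.univ) ⟨z, trivial⟩ isOpen_univ.isLocallyClosed
  let s := pointOfClosedPoint q c hc
  have hs : s ≫ q = 𝟙 _ := pointOfClosedPoint_comp q c hc
  have hs' : (s ≫ pullback.fst h.left y.left) ≫ h.left = y.left := by
    rw [Category.assoc, pullback.condition]
    exact (Category.assoc _ _ _).symm.trans ((congrArg (· ≫ y.left) hs).trans (Category.id_comp _))
  exact ⟨Over.homMk (s ≫ pullback.fst h.left y.left) (by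
    rw [← Over.w h, ← Category.assoc, hs']; exact Over.w y), Over.OverMorphism.ext hs'⟩

end Groth.Agent.AbExt.PRank
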