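import Groth.Agent.AbDualLib.Symm
import Groth.Agent.AbDualLib.Prim
import Groth.Agent.AbSch51.Fibre
import Groth.Agent.AbSch51.MulDeg
import Groth.Agent.PicAlg.Group
import Groth.Agent.EulerFam.Tau

/-!
# Polarisations are symmetric for the Poincaré pairing
-/

set_option autoImplicit false
set_option backward.isDefEq.respectTransparency.types false

universe u

open CategoryTheory CategoryTheory.Limits MonoidalCategory CartesianMonoidalCategory MonObj AlgebraicGeometry

noncomputable section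

namespace Groth.Agent.AbExt.PolSymm

open scoped Groth.Agent.PicLaw
open PicLaw (pl)
open PicLaw.Mumford (op)
open Groth.Agent.AbDualLib
open AbDualLib.Rigid (sec)

variable {S : Scheme.{u}}


theorem eq_one_of_top [IsLocallyNoetherian S] {A At : Over S} [GrpObj A] [GrpObj At] [IsProper A.hom] [Smooth A.hom]
    [GeometricallyConnected A.hom] (e : A ⟶ At) (hu : η[A] ≫ e = 1)
    (h : ∀ a : A.left, e.left a = (1 : A ⟶ At).left a) : e = 1 := by
  have htop : ∀ x : (A ⊗ 𝟙_ (Over S)).left,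
      (fst A (𝟙_ _) ≫ e).left x = (snd A _ ≫ sec A _ ≫ fst A (𝟙_ _) ≫ e).left x := by
    intro x
    have h1 : sec A (𝟙_ (Over S)) ≫ fst A (𝟙_ _) ≫ e = 1 := by
      rw [lift_fst_assoc, Hom.one_def, toUnit_unique (toUnit (𝟙_ (Over S))) (𝟙 _), Category.id_comp, hu]
    rw [h1, MonObj.comp_one, ← MonObj.comp_one (fst A (𝟙_ (Over S))), Over.comp_left, Over.comp_left,
      Scheme.Hom.comp_apply, Scheme.Hom.comp_apply]
    exact h _
  have h1 := AbDualLib.Rigid.eq_of_top (fst A (𝟙_ (Over S)) ≫ e) htop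
  have h2 := congrArg ((ρ_ A).inv ≫ ·) h1
  simp only [rightUnitor_inv_fst_assoc] at h2
  rw [h2, lift_fst_assoc, Hom.one_def, toUnit_unique (toUnit (𝟙_ (Over S))) (𝟙 _), Category.id_comp, hu,
    MonObj.comp_one, MonObj.comp_one]

theorem one_hom_comp {A At W : Over S} [GrpObj A] [GrpObj At] {f : A ⟶ At} (h : IsMonHom f) :
    (1 : W ⟶ A) ≫ f = 1 := by
  rw [Hom.one_def, Category.assoc, IsMonHom.one_hom, ← Hom.one_def]

theorem mul_hom_comp {A At W : Over S} [GrpObj A] [GrpObj At] (a b : W ⟶ A) (f : A ⟶ At) [IsMonHom f] :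
    (a * b) ≫ f = a ≫ f * b ≫ f := MonObj.mul_comp a b f

theorem zero_mul' {X T : Over S} {c d : PicLoc.PicSet (X ⊗ T).left} (hc : PicZero.Zero T c)
    (hd : PicZero.Zero T d) : PicZero.Zero T (c * d) := by
  obtain ⟨L, hL, rfl⟩ := PicGrp.exists_eq_cls c
  obtain ⟨M, hM, rfl⟩ := PicGrp.exists_eq_cls d
  rw [← PicLaw.cls_tensor hL hM]
  refine (PicZero.zero_iff (PicLaw.isInvertible_tensor hL hM)).mpr fun t Ω _ _ σ hσ => ?_
  have h1 := (PicZero.zero_iff hL).mp hc t Ω σ hσ
  have h2 := (PicZero.zero_iff hM).mp hd t Ω σ hσ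
  let : (pullback (PicF.XTproj X.hom T) σ).Over (Spec (CommRingCat.of Ω)) := ⟨pullback.snd _ σ⟩
  obtain ⟨e⟩ := PicLaw.pullback_tensor (pullback.fst (PicF.XTproj X.hom T) σ) hL hM
  exact EulerFam.isAlgEquivZero_of_iso e.symm (PicAlg.isAlgEquivZero_tens h1 h2)

/-- A class trivial on the fibre at `σ` is trivial along `σ`. -/
theorem pt_fibre {A B : Over S} {Ω : Type u} [Field Ω] (σ : Spec (CommRingCat.of Ω) ⟶ B.left)
    (d : PicLoc.PicSet (A ⊗ B).left) (h : pl (pullback.fst (snd A B).left σ) d = 1) :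
    op (A ◁ (Over.homMk σ rfl : Over.mk (σ ≫ B.hom) ⟶ B)) d = 1 := by
  let σS : Over.mk (σ ≫ B.hom) ⟶ B := Over.homMk σ rfl
  let l : (A ⊗ Over.mk (σ ≫ B.hom)).left ⟶ pullback (snd A B).left σ :=
    pullback.lift (A ◁ σS).left (snd A _).left (congrArg Over.Hom.left (whiskerLeft_snd A σS))
  have e' : (A ◁ σS).left = l ≫ pullback.fst (snd A B).left σ := (pullback.lift_fst _ _ _).symm
  show pl (A ◁ σS).left d = 1
  rw [PicLaw.pl_congr e' d, PicLaw.pl_comp, h, map_one]

/-- Algebraic triviality on geometric fibres does not see the base the fibre product is formed over. -/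
theorem zero_transfer {S' : Scheme.{u}} {X T : Over S} {X' T' : Over S'} (ψ : T.left ⟶ T'.left)
    (e : (X ⊗ T).left ⟶ (X' ⊗ T').left) (h : IsPullback e (snd X T).left (snd X' T').left ψ)
    (c : PicLoc.PicSet (X' ⊗ T').left) (hc : PicZero.Zero T' c) : PicZero.Zero T (pl e c) := by
  obtain ⟨L, hL, rfl⟩ := PicGrp.exists_eq_cls c
  refine PicZero.zero_of_family _ fun Ω _ _ σ => ?_
  have : Subsingleton ↥(Spec (CommRingCat.of Ω)) := inferInstanceAs (Subsingleton (PrimeSpectrum Ω))
  obtain ⟨w⟩ : Nonempty ↥(Spec (CommRingCat.of Ω)) := inferInstanceAs (Nonempty (PrimeSpectrum Ω))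
  have hr : Set.range (σ ≫ ψ).base = {(σ ≫ ψ) w} := Set.eq_singleton_iff_unique_mem.mpr
    ⟨⟨w, rfl⟩, by rintro _ ⟨w', rfl⟩; rw [Subsingleton.elim w' w]⟩
  obtain ⟨F, q, h1, h2, h3, M, hM, t, t₀, ht, ht₀, ⟨e₁⟩, ⟨e₀⟩⟩ :=
    (PicZero.zero_iff hL).mp hc ((σ ≫ ψ) w) Ω (σ ≫ ψ) hr
  let m : pullback (snd X T).left σ ⟶ pullback (snd X' T').left (σ ≫ ψ) :=
    pullback.lift (pullback.fst _ _ ≫ e) (pullback.snd _ _) (by
      rw [Category.assoc, h.w, pullback.condition_assoc])
  have hmf : m ≫ pullback.fst _ _ = pullback.fst _ _ ≫ e := pullback.lift_fst _ _ _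
  have hms : m ≫ pullback.snd _ _ = pullback.snd _ _ := pullback.lift_snd _ _ _
  let Θ : pullback (pullback.snd (snd X T).left σ) q ⟶ pullback (pullback.snd (snd X' T').left (σ ≫ ψ)) q :=
    pullback.lift (pullback.fst _ _ ≫ m) (pullback.snd _ _) (by rw [Category.assoc, hms]; exact pullback.condition)
  have key : ∀ (s : Spec (CommRingCat.of Ω) ⟶ F) (hs : s ≫ q = 𝟙 _),
      pullback.lift (𝟙 _) (pullback.snd (snd X T).left σ ≫ s) (by simp [hs]) ≫ Θ =
        m ≫ pullback.lift (𝟙 _) (pullback.snd (snd X' T').left (σ ≫ ψ) ≫ s) (by simp [hs]) := fun s hs => by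
    apply pullback.hom_ext
    · simp only [Θ, Category.assoc, pullback.lift_fst, pullback.lift_fst_assoc, Category.id_comp, Category.comp_id]
    · simp only [Θ, Category.assoc, pullback.lift_snd, pullback.lift_snd_assoc, reassoc_of% hms]
  refine ⟨F, q, h1, h2, h3, pl Θ (PicGrp.cls M hM), t, t₀, ht, ht₀, ?_, ?_⟩
  · rw [← PicLaw.pl_comp, key t ht, PicLaw.pl_comp]
    refine Eq.trans ?_ ((PicLaw.pl_comp _ _ _).trans (congrArg (pl (pullback.fst _ _)) rfl))
    rw [← hmf, PicLaw.pl_comp]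
    refine congrArg (pl m) ?_
    exact (PicLaw.cls_pullback _ hM).symm.trans (((PicLaw.iso_iff (PicLoc.isInvertible_pullback _ hM)
      (PicLoc.isInvertible_pullback _ hL)).mp ⟨e₁⟩).trans (PicLaw.cls_pullback _ hL))
  · rw [← PicLaw.pl_comp, key t₀ ht₀, PicLaw.pl_comp]
    exact (congrArg (pl m) ((PicLaw.cls_pullback _ hM).symm.trans
      ((PicGrp.cls_eq_one_iff (PicLoc.isInvertible_pullback _ hM)).mpr ⟨e₀⟩))).trans (map_one _)

variable [IsLocallyNoetherian S] {A At : Over S} [GrpObj A] [IsCommMonObj A] [GrpObj At] [IsCommMonObj At]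
  [IsProper A.hom] [Smooth A.hom] [GeometricallyConnected A.hom]
  {φ : AgPol.DualMap A At} (hdual : AbDual.IsDualAV Scheme.fppfPrecoverage A At φ)
  {ξ : PicLoc.PicSet (A ⊗ At).left} (hξ : AbDual.IsPoincareCl A At φ ξ.1)

include hdual hξ in
theorem pt_pair {T : Over S} (s : T ⟶ At) : φ T (op (A ◁ s) ξ).1 = s := by
  rw [PicZero.pt_natural hdual _ _ hξ.1, hξ.2.1, Category.comp_id]

include hξ in
omit [IsLocallyNoetherian S] [IsCommMonObj A] [IsCommMonObj At] [IsProper A.hom] [Smooth A.hom]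
  [GeometricallyConnected A.hom] in
theorem sec_pair {T : Over S} (s : T ⟶ At) : op (sec A T) (op (A ◁ s) ξ) = 1 := by
  rw [← PicLaw.Mumford.op_comp, AbDualLib.Rigid.sec_natural, PicLaw.Mumford.op_comp,
    AbDualLib.Symm.sec_of_poincare hξ, map_one]

include hdual hξ in
theorem pair_mul_left {W : Over S} (a b : W ⟶ A) (s : W ⟶ At) :
    op (lift (a * b) s) ξ = op (lift a s) ξ * op (lift b s) ξ :=
  AbDualLib.Primitive.op_mul hdual ξ hξ.1 (AbDualLib.Symm.sec_of_poincare hξ) a b s

include hdual hξ in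
theorem whisker_mul {T : Over S} (s t : T ⟶ At) : op (A ◁ (s * t)) ξ = op (A ◁ s) ξ * op (A ◁ t) ξ := by
  have hz : ∀ s : T ⟶ At, PicZero.Zero T (op (A ◁ s) ξ) := fun s => AbVarLib.Bilin.zero_op _ _ hξ.1
  have hz2 : PicZero.Zero T (op (A ◁ s) ξ * op (A ◁ t) ξ) := by
    exact zero_mul' (hz s) (hz t)
  refine AbDualLib.Symm.eq_of_pt_eq hdual _ _ (hz _) hz2 (sec_pair hξ _)
    (by rw [map_mul, sec_pair hξ, sec_pair hξ, _root_.one_mul]) ?_
  rw [PicZero.pt_mul hdual _ _ (hz s) (hz t), pt_pair hdual hξ, pt_pair hdual hξ, pt_pair hdual hξ]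

include hdual hξ in
theorem pair_mul_right {W : Over S} (a : W ⟶ A) (s t : W ⟶ At) :
    op (lift a (s * t)) ξ = op (lift a s) ξ * op (lift a t) ξ := by
  have e : ∀ r : W ⟶ At, op (lift a r) ξ = op (lift a (𝟙 W)) (op (A ◁ r) ξ) := fun r => by
    rw [← PicLaw.Mumford.op_comp, lift_whiskerLeft, Category.id_comp]
  rw [e, e s, e t, whisker_mul hdual hξ, map_mul]

include hdual hξ in
theorem pair_one_right {W : Over S} (a : W ⟶ A) : op (lift a (1 : W ⟶ At)) ξ = 1 := by
  have h := pair_mul_right hdual hξ a 1 1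
  rw [_root_.one_mul] at h
  exact mul_eq_left.mp h.symm

include hdual hξ in
theorem pair_pow_right {W : Over S} (a : W ⟶ A) (s : W ⟶ At) (n : ℕ) :
    op (lift a (s ^ n)) ξ = op (lift a s) ξ ^ n := by
  induction n with
  | zero => rw [pow_zero, pow_zero, pair_one_right hdual hξ]
  | succ n ih => rw [pow_succ, pow_succ, pair_mul_right hdual hξ, ih]

variable {lam : A ⟶ At} (hpol : AgPol.IsPolarization A At φ lam)

include hdual hξ hpol in
/-- The pairing of a polarisation is symmetric on geometric fibres. -/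
theorem symm_fibre {Ω : Type u} [Field Ω] [IsAlgClosed Ω] (g : Spec (CommRingCat.of Ω) ⟶ S)
    {W : Over (Spec (CommRingCat.of Ω))} (x y : W ⟶ Red.bc g A) :
    op (lift (Prim.pre g A x) (Prim.pre g A y ≫ lam)) ξ = op (lift (Prim.pre g A y) (Prim.pre g A x ≫ lam)) ξ := by
  let A' := Red.bc g A
  have : IsProper A'.hom := inferInstanceAs (IsProper (pullback.snd A.hom g))
  have : Smooth A'.hom := inferInstanceAs (Smooth (pullback.snd A.hom g))
  have : GeometricallyConnected A'.hom := inferInstanceAs (GeometricallyConnected (pullback.snd A.hom g))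
  obtain ⟨L, hamp, N, hN, hsheaf, hN'⟩ := hpol.2 Ω g
  let l' := PicGrp.cls L hamp.1
  let T : Over S := (Over.map g).obj A'
  let pA : T ⟶ A := Prim.pre g A (𝟙 A')
  let E := (AgPol.bcXTIso g A A').inv
  have hmum : PicGrp.cls N hN = PicZero.mum A' l' (𝟙 A') := PicZero.cls_lambdaSheaf hamp.1 hN hsheaf
  let c' : PicLoc.PicSet (A ⊗ T).left := pl E (PicGrp.cls N hN)
  have hEfst : E ≫ (fst A' A').left ≫ pullback.fst A.hom g = (fst A T).left :=
    pullbackLeftPullbackSndIso_inv_fst A.hom g A'.hom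
  have hEsnd : E ≫ (snd A' A').left = (snd A T).left :=
    pullbackLeftPullbackSndIso_inv_snd_snd A.hom g A'.hom
  have hlam : φ T c'.1 = pA ≫ lam := by
    refine Over.OverMorphism.ext ?_
    have h1 := congrArg (fun m => Over.Hom.left m ≫ pullback.fst At.hom g) hN'
    rw [Over.comp_left, Prim.pre_left]
    refine ((pullback.lift_fst _ _ _).symm.trans h1).trans ((pullback.lift_fst _ _ _).trans ?_)
    exact congrArg (· ≫ lam.left) (Category.id_comp _).symm
  have hform : ∀ {W : Over (Spec (CommRingCat.of Ω))} (x y : W ⟶ A'),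
      op (lift (Prim.pre g A x) ((Over.map g).map y)) c' =
        op (x * y) l' / (op x l' * op y l') := fun {W} x y => by
    have e : (lift (Prim.pre g A x) ((Over.map g).map y)).left ≫ E = (lift x y).left := by
      apply pullback.hom_ext
      · apply pullback.hom_ext
        · refine (Category.assoc _ _ _).trans ?_
          refine (Category.assoc _ _ _).trans ((congrArg (_ ≫ ·) hEfst).trans ?_)
          rw [← Over.comp_left, lift_fst, Prim.pre_left]
          exact congrArg (· ≫ _) (congrArg Over.Hom.left (lift_fst x y)).symm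
        · have hEfs : E ≫ (fst A' A').left ≫ A'.hom = (snd A T).left ≫ A'.hom :=
            pullbackLeftPullbackSndIso_inv_fst_snd A.hom g A'.hom
          refine (Category.assoc _ _ _).trans ((Category.assoc _ _ _).trans ((congrArg (_ ≫ ·) hEfs).trans ?_))
          refine Eq.trans ?_ (Category.assoc _ _ _).symm
          show _ = (lift x y).left ≫ (fst A' A').left ≫ A'.hom
          rw [Over.w (fst A' A'), Over.w (lift x y), ← Category.assoc, ← Over.comp_left, lift_snd]
          exact Over.w y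
      · refine (Category.assoc _ _ _).trans ((congrArg (_ ≫ ·) hEsnd).trans ?_)
        rw [← Over.comp_left, lift_snd]
        exact (congrArg Over.Hom.left (lift_snd x y)).symm
    show pl _ (pl E _) = _
    rw [← PicLaw.pl_comp, hmum]
    refine (PicLaw.pl_congr e _).trans ?_
    exact (PicZero.op_mum A' l' (𝟙 A') (lift x y)).trans (by simp only [Category.comp_id, lift_fst, lift_snd])
  have hpre1 : ∀ W : Over (Spec (CommRingCat.of Ω)), Prim.pre g A (1 : W ⟶ A') = 1 := fun W => by
    have h := Prim.pre_mul g A (1 : W ⟶ A') 1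
    rw [_root_.one_mul] at h
    exact mul_eq_left.mp h.symm
  have hc'r : op (sec A T) c' = 1 := by
    have h := hform (1 : A' ⟶ A') (𝟙 A')
    rw [hpre1, CategoryTheory.Functor.map_id, _root_.one_mul] at h
    rw [show sec A T = lift (1 : T ⟶ A) (𝟙 T) from rfl, h, Hom.one_def, PicLaw.Mumford.op_comp,
      PicLaw.Mumford.op_unit_eq_one, map_one, _root_.one_mul, div_self']
  have hc'z : PicZero.Zero T c' := by
    refine zero_transfer (X := A) (T := T) (X' := A') (T' := A') (𝟙 A'.left) E ?_ _ (hmum ▸ PicZero.zero_mum A' l' (𝟙 A'))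
    have : IsIso E := inferInstanceAs (IsIso (AgPol.bcXTIso g A A').inv)
    have : IsIso (show T.left ⟶ A'.left from 𝟙 A'.left) := inferInstanceAs (IsIso (𝟙 A'.left))
    exact @IsPullback.of_horiz_isIso _ _ _ _ _ _ E (snd A T).left (snd A' A').left (𝟙 A'.left)
      (by assumption) (by assumption) ⟨hEsnd.trans (Category.comp_id _).symm⟩
  have hc' : op (A ◁ (pA ≫ lam)) ξ = c' := by
    rw [← hlam]
    exact AbDualLib.Symm.op_whisker_poincare hdual hξ c' hc'z hc'r
  have hcomm : x * y = y * x := by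
    rw [← Prim.eq_unit_map_pre g A (x * y), Prim.pre_mul, _root_.mul_comm, ← Prim.pre_mul,
      Prim.eq_unit_map_pre]
  have hkey : ∀ x y : W ⟶ A', op (lift (Prim.pre g A x) (Prim.pre g A y ≫ lam)) ξ =
      op (x * y) l' / (op x l' * op y l') := fun x y => by
    rw [← hform, ← hc', ← PicLaw.Mumford.op_comp, lift_whiskerLeft]
    congr 2
  rw [hkey, hkey, hcomm, _root_.mul_comm (op x l')]

include hdual hξ hpol in
/-- The pairing of a polarisation is symmetric. -/
theorem symm {W : Over S} (x y : W ⟶ A) :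
    op (lift x (y ≫ lam)) ξ = op (lift y (x ≫ lam)) ξ := by
  suffices h : op (lift (fst A A) (snd A A ≫ lam)) ξ = op (lift (snd A A) (fst A A ≫ lam)) ξ by
    have := congrArg (op (lift x y)) h
    simp only [← PicLaw.Mumford.op_comp, comp_lift, lift_fst, lift_snd, lift_fst_assoc, lift_snd_assoc] at this
    exact this
  let d := op (lift (fst A A) (snd A A ≫ lam)) ξ / op (lift (snd A A) (fst A A ≫ lam)) ξ
  have hfib : ∀ (Ω : Type u) [Field Ω] [IsAlgClosed Ω] (σ : Spec (CommRingCat.of Ω) ⟶ A.left),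
      pl (pullback.fst (snd A A).left σ) d = 1 := by
    intro Ω _ _ σ
    let g := σ ≫ A.hom
    let q := pullback.snd (snd A A).left σ
    let W : Over (Spec (CommRingCat.of Ω)) := Over.mk q
    have hw : ∀ j : A ⊗ A ⟶ A, (pullback.fst (snd A A).left σ ≫ j.left) ≫ A.hom = q ≫ g := fun j => by
      rw [Category.assoc, Over.w j, ← Over.w (snd A A), pullback.condition_assoc]
    let x : W ⟶ Red.bc g A := Over.homMk (pullback.lift _ q (hw (fst A A))) (pullback.lift_snd _ _ _)
    let y : W ⟶ Red.bc g A := Over.homMk (pullback.lift _ q (hw (snd A A))) (pullback.lift_snd _ _ _)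
    have h := symm_fibre hdual hξ hpol g x y
    have e : ∀ {j₁ j₂ : A ⊗ A ⟶ A} {z₁ z₂ : (Over.map g).obj W ⟶ A},
        z₁.left = pullback.fst (snd A A).left σ ≫ j₁.left → z₂.left = pullback.fst (snd A A).left σ ≫ j₂.left →
        pullback.fst (snd A A).left σ ≫ (lift j₁ (j₂ ≫ lam)).left = (lift z₁ (z₂ ≫ lam)).left := by
      intro j₁ j₂ z₁ z₂ h1 h2
      apply pullback.hom_ext
      · refine (Category.assoc _ _ _).trans ?_
        refine (congrArg (_ ≫ ·) (congrArg Over.Hom.left (lift_fst j₁ (j₂ ≫ lam)))).trans ?_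
        exact h1.symm.trans (congrArg Over.Hom.left (lift_fst z₁ (z₂ ≫ lam))).symm
      · refine (Category.assoc _ _ _).trans ?_
        refine (congrArg (_ ≫ ·) (congrArg Over.Hom.left (lift_snd j₁ (j₂ ≫ lam)))).trans ?_
        refine Eq.trans ?_ (congrArg Over.Hom.left (lift_snd z₁ (z₂ ≫ lam))).symm
        rw [Over.comp_left, Over.comp_left, h2, Category.assoc]
    have hx : (Prim.pre g A x).left = pullback.fst (snd A A).left σ ≫ (fst A A).left := by
      rw [Prim.pre_left]; exact pullback.lift_fst _ _ _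
    have hy : (Prim.pre g A y).left = pullback.fst (snd A A).left σ ≫ (snd A A).left := by
      rw [Prim.pre_left]; exact pullback.lift_fst _ _ _
    show pl _ (pl _ ξ / pl _ ξ) = 1
    rw [map_div, ← PicLaw.pl_comp, ← PicLaw.pl_comp, PicLaw.pl_congr (e hx hy) ξ, PicLaw.pl_congr (e hy hx) ξ]
    exact div_eq_one.mpr h
  have hdz : PicZero.Zero A d := AbDualLib.Primitive.zero_of_fibres _ hfib
  have hdr : op (sec A A) d = 1 := by
    simp only [d, map_div, ← PicLaw.Mumford.op_comp, comp_lift, lift_fst, lift_snd, lift_fst_assoc, lift_snd_assoc,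
      Category.id_comp]
    rw [AbDualLib.Primitive.op_one_left ξ (AbDualLib.Symm.sec_of_poincare hξ) lam, one_hom_comp hpol.1,
      pair_one_right hdual hξ, div_one]
  have hpt : φ A d.1 = 1 := by
    let e := φ A d.1
    have hu : η[A] ≫ e = 1 := by
      rw [← PicZero.pt_natural hdual η[A] _ hdz]
      suffices op (A ◁ η[A]) d = 1 by rw [this, PicZero.pt_one hdual]
      have h1 : snd A (𝟙_ (Over S)) ≫ η[A] = 1 := by
        rw [toUnit_unique (snd A (𝟙_ (Over S))) (toUnit _), Hom.one_def]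
      simp only [d, map_div, ← PicLaw.Mumford.op_comp, comp_lift, whiskerLeft_fst, whiskerLeft_snd,
        whiskerLeft_fst_assoc, whiskerLeft_snd_assoc, Category.assoc]
      rw [← Category.assoc (snd A (𝟙_ (Over S))), h1, one_hom_comp hpol.1, pair_one_right hdual hξ,
        AbDualLib.Primitive.op_one_left ξ (AbDualLib.Symm.sec_of_poincare hξ), div_one]
    have htop : ∀ a : A.left, e.left a = (1 : A ⟶ At).left a := by
      intro a
      let Ω := AlgebraicClosure (A.left.residueField a)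
      let σ : Spec (CommRingCat.of Ω) ⟶ A.left :=
        Spec.map (CommRingCat.ofHom (algebraMap (A.left.residueField a) Ω)) ≫ A.left.fromSpecResidueField a
      let ΩS : Over S := Over.mk (σ ≫ A.hom)
      let σS : ΩS ⟶ A := Over.homMk σ rfl
      obtain ⟨o⟩ : Nonempty ↥ΩS.left := inferInstanceAs (Nonempty (PrimeSpectrum Ω))
      have h1 : σS ≫ e = σS ≫ 1 := by
        rw [← PicZero.pt_natural hdual σS _ hdz, MonObj.comp_one]
        suffices op (A ◁ σS) d = 1 by rw [this, PicZero.pt_one hdual]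
        exact pt_fibre σ d (hfib Ω σ)
      have ho : σS.left o = a := (Scheme.Hom.comp_apply (Spec.map (CommRingCat.ofHom (algebraMap (A.left.residueField a) Ω))) (A.left.fromSpecResidueField a) o).trans (Scheme.fromSpecResidueField_apply _ _)
      have h2 := congrArg (fun f : ΩS ⟶ At => f.left o) h1
      simp only [Over.comp_left, Scheme.Hom.comp_apply] at h2
      rw [← ho]; exact h2
    exact eq_one_of_top e hu htop
  have h1 := AbDualLib.Symm.eq_of_pt_eq hdual d 1 hdz (PicZero.zero_one A) hdr (map_one _)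
    (by rw [hpt, PicZero.pt_one hdual])
  exact div_eq_one.mp h1

include hdual hξ hpol in
/-- The Mumford class of the pullback of the Poincaré class along the graph of a multiple. -/
theorem mum_graph (k : ℕ) :
    PicZero.mum A (op (lift (𝟙 A) (lam ^ k)) ξ) (𝟙 A) = op (A ◁ (lam ^ k * lam ^ k)) ξ := by
  have hl : ∀ {W : Over S} (a : W ⟶ A), op a (op (lift (𝟙 A) (lam ^ k)) ξ) = op (lift a ((a ≫ lam) ^ k)) ξ :=
    fun a => by rw [← PicLaw.Mumford.op_comp, comp_lift, Category.comp_id, MonObj.comp_pow]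
  rw [PicZero.mum, hl, hl, hl, Category.comp_id]
  have hm : (fst A A * snd A A) ≫ lam = fst A A ≫ lam * snd A A ≫ lam := by
    have := hpol.1
    exact mul_hom_comp _ _ lam
  rw [hm, _root_.mul_pow, pair_mul_left hdual hξ, pair_mul_right hdual hξ, pair_mul_right hdual hξ]
  have hs : op (lift (snd A A) ((fst A A ≫ lam) ^ k)) ξ = op (lift (fst A A) ((snd A A ≫ lam) ^ k)) ξ := by
    rw [pair_pow_right hdual hξ, pair_pow_right hdual hξ, symm hdual hξ hpol]
  have hw : A ◁ (lam ^ k * lam ^ k) = lift (fst A A) ((snd A A ≫ lam) ^ k * (snd A A ≫ lam) ^ k) := by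
    apply CartesianMonoidalCategory.hom_ext <;> simp [MonObj.comp_mul, MonObj.comp_pow]
  rw [hw, pair_mul_right hdual hξ, hs]
  set a := op (lift (fst A A) ((fst A A ≫ lam) ^ k)) ξ
  set b := op (lift (fst A A) ((snd A A ≫ lam) ^ k)) ξ
  set c := op (lift (snd A A) ((snd A A ≫ lam) ^ k)) ξ
  rw [div_eq_iff_eq_mul]
  ac_rfl

/-- Two polarisations with the same pullback of the Poincaré class along the graphs of multiples agree. -/
theorem eq_of_graph {lam₁ lam₂ : A ⟶ At} (hdual : AbDual.IsDualAV Scheme.fppfPrecoverage A At φ)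
    (hξ : AbDual.IsPoincareCl A At φ ξ.1) (h₁ : AgPol.IsPolarization A At φ lam₁)
    (h₂ : AgPol.IsPolarization A At φ lam₂) (k : ℕ) (hk : 1 ≤ k)
    (heq : op (lift (𝟙 A) (lam₁ ^ k)) ξ = op (lift (𝟙 A) (lam₂ ^ k)) ξ) : lam₁ = lam₂ := by
  have h := mum_graph hdual hξ h₁ k
  rw [heq, mum_graph hdual hξ h₂ k] at h
  have h' := congrArg (fun c : PicLoc.PicSet (A ⊗ A).left => φ A c.1) h
  simp only [pt_pair hdual hξ] at h'
  have hm₁ := h₁.1
  have hm₂ := h₂.1
  have hz : (lam₁ / lam₂) ^ (2 * k) = 1 := by rw [div_pow, two_mul, pow_add, pow_add, h', div_self']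
  let e := lam₁ / lam₂
  have hcomp : (𝟙 A ^ (2 * k)) ≫ e = 1 := by
    rw [← hz]
    simp only [e, div_eq_mul_inv, MonObj.comp_mul, GrpObj.comp_inv, _root_.mul_pow, inv_pow, MonObj.pow_comp,
      Category.id_comp]
  have hu : η[A] ≫ e = 1 := by
    simp only [e, div_eq_mul_inv, MonObj.comp_mul, GrpObj.comp_inv, IsMonHom.one_hom]
    exact mul_inv_cancel _
  have hsurj : Surjective (𝟙 A ^ (2 * k)).left := by
    refine AbSch51.surjective_of_fib _ fun s => ?_
    letI : GrpObj (AbSch51.fib A s) := Functor.grpObjObj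
    rw [← zpow_natCast, AbSch51.fibMap_zpow A _ s]
    have : Smooth (AbSch51.fib A s).hom := inferInstanceAs (Smooth (pullback.snd A.hom (S.fromSpecResidueField s)))
    have : GeometricallyConnected (AbSch51.fib A s).hom :=
      inferInstanceAs (GeometricallyConnected (pullback.snd A.hom (S.fromSpecResidueField s)))
    have := AbVarLib.Basics.geometricallyIntegral (AbSch51.fib A s)
    exact (AbSch51.MulDeg.isFinite_flat_surjective (AbSch51.fib A s) (by omega)).2.2
  refine div_eq_one.mp (eq_one_of_top e hu fun a => ?_)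
  obtain ⟨b, hb⟩ := (𝟙 A ^ (2 * k)).left.surjective a
  rw [← hb]
  have h2 := congrArg (fun f : A ⟶ At => f.left b) (hcomp.trans (MonObj.comp_one (𝟙 A ^ (2 * k))).symm)
  simp only [Over.comp_left, Scheme.Hom.comp_apply] at h2
  exact h2

/-- The pullback of the Poincaré class along the graph of a multiple gives twice the multiple. -/
theorem isLambda_graph (hdual : AbDual.IsDualAV Scheme.fppfPrecoverage A At φ)
    (hξ : AbDual.IsPoincareCl A At φ ξ.1) {lam : A ⟶ At} (hpol : AgPol.IsPolarization A At φ lam) (k : ℕ)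
    (L : A.left.Modules) (hL : PicF.cl L = (op (lift (𝟙 A) (lam ^ k)) ξ).1) :
    AgPol.IsLambda A At φ L (lam ^ k * lam ^ k) := by
  obtain ⟨L', hL', hc'⟩ := PicGrp.exists_eq_cls (op (lift (𝟙 A) (lam ^ k)) ξ)
  obtain ⟨i⟩ := (PicGrp.cl_eq_cl_iff L L').mp (hL.trans (congrArg Subtype.val hc'))
  have hLi : PicF.IsInvertible L := PicCl.isInvertible_of_iso i.symm hL'
  have hcls : PicGrp.cls L hLi = op (lift (𝟙 A) (lam ^ k)) ξ := Subtype.ext hL
  obtain ⟨N, hN, hNc⟩ := PicGrp.exists_eq_cls (PicZero.mum A (op (lift (𝟙 A) (lam ^ k)) ξ) (𝟙 A))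
  refine ⟨N, hN, (PicLaw.Mumford.lambda_iff _ _ _ hLi hN).mpr ?_, ?_⟩
  · rw [← hNc, PicZero.mum, Category.comp_id, hcls, show fst A A * snd A A = μ[A] by
      rw [Hom.mul_def, lift_fst_snd, Category.id_comp], _root_.mul_assoc]
    exact div_mul_cancel _ _
  · rw [show PicF.cl N = (PicGrp.cls N hN).1 from rfl, ← hNc, mum_graph hdual hξ hpol k, pt_pair hdual hξ]

end Groth.Agent.AbExt.PolSymm
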