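import Groth.Prelude.Def_AbDual
import Groth.Prelude.Def_AlgGrp
import Mathlib.GroupTheory.Torsion
import Mathlib.LinearAlgebra.Isomorphisms

/-!
# Kernel and cokernel of `T_l` of an isogeny, on points
-/

set_option autoImplicit false
universe u

open CategoryTheory MonoidalCategory CartesianMonoidalCategory MonObj AlgebraicGeometry

noncomputable section

namespace Groth.Agent.AbExt.TateCoker

variable {S : Scheme.{u}} {X Y N T : Over S} [GrpObj X] [IsCommMonObj X] [GrpObj Y] [IsCommMonObj Y]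
  [GrpObj N] [IsCommMonObj N] (f : X ⟶ Y) [IsMonHom f] (i : N ⟶ X) [IsMonHom i]
  (l : ℕ) [Fact l.Prime]

/-- The map on points, additively. -/
def ptsMap : Additive (T ⟶ X) →+ Additive (T ⟶ Y) where
  toFun x := Additive.ofMul (x.toMul ≫ f)
  map_zero' := congrArg Additive.ofMul (MonObj.one_comp f)
  map_add' x y := congrArg Additive.ofMul (MonObj.mul_comp _ _ f)

theorem main (hN : AlgGrp.IsKernel i f) [Finite (T ⟶ N)]
    (hdiv : ∀ a : T ⟶ X, ∃ b : T ⟶ X, b ^ l = a) (hsurj : ∀ b : T ⟶ Y, ∃ a : T ⟶ X, a ≫ f = b) :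
    Function.Injective (AbDual.tateMapₗ (l := l) (T := T) f) ∧
      Nonempty ((AbDual.TateMod Y l T ⧸ LinearMap.range (AbDual.tateMapₗ (l := l) (T := T) f)) ≃+
        Additive ↥(CommGroup.primaryComponent (T ⟶ N) l)) := by
  classical
  have hl : l.Prime := Fact.out
  let φ : Additive (T ⟶ X) →+ Additive (T ⟶ Y) := ptsMap f
  let κ : Additive (T ⟶ N) →+ Additive (T ⟶ X) := ptsMap i
  have hif : ∀ c : Additive (T ⟶ N), φ (κ c) = 0 := fun c => by
    show Additive.ofMul ((c.toMul ≫ i) ≫ f) = Additive.ofMul 1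
    rw [Category.assoc, hN.w, ← Category.assoc, toUnit_unique (c.toMul ≫ toUnit N) (toUnit T), ← Hom.one_def]
  have hker : ∀ g, φ g = 0 → ∃ c, κ c = g := fun g hg => by
    have hg' : g.toMul ≫ f = toUnit T ≫ η[Y] := by
      rw [← Hom.one_def]; exact congrArg Additive.toMul hg
    exact ⟨Additive.ofMul (hN.lift g.toMul (toUnit T) hg'), congrArg Additive.ofMul (hN.lift_fst _ _ hg')⟩
  have hκinj : Function.Injective κ := fun c d h => by
    apply Additive.toMul.injective
    exact hN.hom_ext (congrArg Additive.toMul h) (toUnit_unique _ _)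
  -- the order of the kernel
  let a := padicValNat l (Nat.card (Additive (T ⟶ N)))
  obtain ⟨m, hm⟩ : l ^ a ∣ Nat.card (Additive (T ⟶ N)) := pow_padicValNat_dvd
  have hm0 : ¬ l ∣ m := fun ⟨q, hq⟩ => by
    refine pow_succ_padicValNat_not_dvd (p := l) Nat.card_pos.ne' (?_ : l ^ (a + 1) ∣ _)
    exact ⟨q, by rw [hm, hq, pow_succ]; ring⟩
  have hNkill : ∀ g, φ g = 0 → (l ^ a * m) • g = 0 := fun g hg => by
    obtain ⟨c, rfl⟩ := hker g hg
    rw [← hm, ← map_nsmul, card_nsmul_eq_zero', map_zero]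
  -- the quasi-inverse on points
  have hs : ∀ b : Additive (T ⟶ Y), ∃ g, φ g = b := fun b => by
    obtain ⟨g, hg⟩ := hsurj b.toMul; exact ⟨Additive.ofMul g, congrArg Additive.ofMul hg⟩
  choose s hs using hs
  have hD : ∀ g b, φ g = b → (l ^ a * m) • g = (l ^ a * m) • s b := fun g b h => by
    rw [← sub_eq_zero, ← smul_sub]; exact hNkill _ (by rw [map_sub, h, hs, sub_self])
  let D : Additive (T ⟶ Y) →+ Additive (T ⟶ X) :=
    AddMonoidHom.mk' (fun b => (l ^ a * m) • s b) fun b c => by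
      show (l ^ a * m) • s (b + c) = (l ^ a * m) • s b + (l ^ a * m) • s c
      rw [← smul_add, ← hD (s b + s c) (b + c) (by rw [map_add, hs, hs])]
  have hDφ : ∀ g, D (φ g) = (l ^ a * m) • g := fun g => (hD g _ rfl).symm
  have hφD : ∀ b, φ (D b) = (l ^ a * m) • b := fun b => by
    show φ ((l ^ a * m) • s b) = _; rw [map_nsmul, hs]
  -- a multiple of `m` determines an element killed by a power of `l`
  have hmcancel : ∀ {M : Type u} [AddCommGroup M] (x : M) (j : ℕ), (l ^ j) • x = 0 → m • x = 0 → x = 0 :=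
    fun {M} _ x j h1 h2 => by
      have hcop : Nat.Coprime (l ^ j) m := ((Nat.Prime.coprime_iff_not_dvd hl).mpr hm0).pow_left j
      have h1' := addOrderOf_dvd_iff_nsmul_eq_zero.mpr h1
      have h2' := addOrderOf_dvd_iff_nsmul_eq_zero.mpr h2
      exact AddMonoid.addOrderOf_eq_one_iff.mp (Nat.dvd_one.mp (hcop.gcd_eq_one ▸ Nat.dvd_gcd h1' h2'))
  have hcomp : ∀ (x : AbDual.TateMod X l T) (n : ℕ),
      (AbDual.tateMapₗ (l := l) (T := T) f x : ℕ → Additive (T ⟶ Y)) n = φ ((x : ℕ → Additive (T ⟶ X)) n) :=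
    fun x n => rfl
  have hup : ∀ {W : Over S} [GrpObj W] [IsCommMonObj W] (z : AbDual.TateMod W l T) (j n : ℕ),
      (l ^ j) • (z : ℕ → Additive (T ⟶ W)) (n + j) = (z : ℕ → Additive (T ⟶ W)) n := fun {W} _ _ z j n => by
    induction j with
    | zero => rw [pow_zero, one_smul]; rfl
    | succ j ih => rw [pow_succ, mul_smul, ← Nat.add_assoc, AbDual.TateMod.compat, ih]
  have hinj : Function.Injective (AbDual.tateMapₗ (l := l) (T := T) f) := by
    rw [injective_iff_map_eq_zero]
    intro x hx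
    refine AbDual.TateMod.ext fun n => ?_
    have h0 : φ ((x : ℕ → Additive (T ⟶ X)) (n + a)) = 0 :=
      (hcomp x _).symm.trans (congrArg (fun z : AbDual.TateMod Y l T => (z : ℕ → Additive (T ⟶ Y)) (n + a)) hx)
    refine hmcancel _ n (x.torsion n) ?_
    have := hNkill _ h0
    rwa [mul_comm, mul_smul, hup x a n] at this
  refine ⟨hinj, ?_⟩
  -- the connecting map
  have hδ : ∀ y : AbDual.TateMod Y l T, ∃ c : Additive (T ⟶ N),
      κ c = D ((y : ℕ → Additive (T ⟶ Y)) a) ∧ (l ^ a) • c = 0 := fun y => by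
    obtain ⟨c, hc⟩ := hker (D ((y : ℕ → Additive (T ⟶ Y)) a)) (by
      rw [hφD, mul_comm, mul_smul, y.torsion a, smul_zero])
    refine ⟨c, hc, hκinj ?_⟩
    rw [map_nsmul, hc, ← map_nsmul, y.torsion a, map_zero, map_zero]
  choose δ hδ1 hδ2 using hδ
  let δ' : AbDual.TateMod Y l T →+ Additive ↥(CommGroup.primaryComponent (T ⟶ N) l) :=
    AddMonoidHom.mk' (fun y => Additive.ofMul
      ⟨(δ y).toMul, CommGroup.mem_primaryComponent.mpr ⟨a, congrArg Additive.toMul (hδ2 y)⟩⟩)
      fun y z => by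
        have : δ (y + z) = δ y + δ z := hκinj (by
          rw [map_add, hδ1, hδ1, hδ1, ← map_add]; rfl)
        exact congrArg Additive.ofMul (Subtype.ext (congrArg Additive.toMul this))
  have hval : ∀ y, Additive.ofMul (((δ' y).toMul : ↥(CommGroup.primaryComponent (T ⟶ N) l)) : T ⟶ N) = δ y :=
    fun y => rfl
  have hkerδ : δ'.ker = (LinearMap.range (AbDual.tateMapₗ (l := l) (T := T) f)).toAddSubgroup := by
    ext y
    rw [AddMonoidHom.mem_ker, Submodule.mem_toAddSubgroup, LinearMap.mem_range]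
    constructor
    · intro hy
      have hy' : D ((y : ℕ → Additive (T ⟶ Y)) a) = 0 := by
        rw [← hδ1, ← hval, hy]
        exact map_zero κ
      let x : AbDual.TateMod X l T := ⟨fun n => D ((y : ℕ → Additive (T ⟶ Y)) (n + a)),
        fun n => by rw [← map_nsmul, Nat.add_comm n a, hup y n a, hy'],
        fun n => by
          show l • D ((y : ℕ → Additive (T ⟶ Y)) (n + 1 + a)) = _
          rw [← map_nsmul, show n + 1 + a = (n + a) + 1 by omega, y.compat]⟩
      have hx : AbDual.tateMapₗ (l := l) (T := T) f x = m • y := AbDual.TateMod.ext fun n => by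
        rw [hcomp]
        show φ (D ((y : ℕ → Additive (T ⟶ Y)) (n + a))) = m • (y : ℕ → Additive (T ⟶ Y)) n
        rw [hφD, mul_comm, mul_smul, hup y a n]
      have hu : IsUnit (m : ℤ_[l]) := by
        rw [PadicInt.isUnit_iff, ← Int.cast_natCast]
        exact le_antisymm (PadicInt.norm_le_one _) (not_lt.mp fun h => hm0
          (by exact_mod_cast (PadicInt.norm_int_lt_one_iff_dvd _).mp h))
      refine ⟨(↑hu.unit⁻¹ : ℤ_[l]) • x, ?_⟩
      rw [map_smul, hx, ← Nat.cast_smul_eq_nsmul ℤ_[l], ← mul_smul, IsUnit.val_inv_mul hu, one_smul]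
    · rintro ⟨x, rfl⟩
      have h0 : δ (AbDual.tateMapₗ (l := l) (T := T) f x) = 0 := hκinj (by
        rw [hδ1, map_zero, hcomp, hDφ, mul_comm, mul_smul, x.torsion a, smul_zero])
      exact congrArg Additive.ofMul (Subtype.ext (congrArg Additive.toMul h0))
  have hsurjδ : Function.Surjective δ' := by
    intro z
    let c : Additive (T ⟶ N) := Additive.ofMul (z.toMul : T ⟶ N)
    obtain ⟨e, he⟩ := CommGroup.mem_primaryComponent.mp z.toMul.2
    have hc : (l ^ a) • c = 0 := by
      have he' : (l ^ e) • c = 0 := congrArg Additive.ofMul he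
      refine hmcancel _ e (by rw [smul_comm, he', smul_zero]) ?_
      rw [← mul_smul, mul_comm m, ← hm, card_nsmul_eq_zero']
    -- invert `m` modulo `l ^ a`
    obtain ⟨q, hq⟩ : ∃ q : ℕ, (m * q) • c = c := by
      have hcop : Nat.Coprime m (l ^ a) := (((Nat.Prime.coprime_iff_not_dvd hl).mpr hm0).pow_left a).symm
      obtain ⟨q, hq⟩ := exists_nsmul_eq_self_of_coprime (x := c) (n := m)
        (hcop.coprime_dvd_right (addOrderOf_dvd_iff_nsmul_eq_zero.mpr hc))
      exact ⟨q, by rw [mul_comm, mul_smul]; exact hq⟩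
    choose g hg using hdiv
    let G : ℕ → (T ⟶ X) := fun n => g^[n] (κ (q • c)).toMul
    have hG : ∀ n, l • Additive.ofMul (G (n + 1)) = Additive.ofMul (G n) := fun n => by
      simp only [G, Function.iterate_succ_apply']
      exact congrArg Additive.ofMul (hg _)
    have hG0 : ∀ n, (l ^ n) • Additive.ofMul (G n) = κ (q • c) := fun n => by
      induction n with
      | zero => rw [pow_zero, one_smul]; rfl
      | succ n ih => rw [pow_succ, mul_smul, hG, ih]
    let y : AbDual.TateMod Y l T := ⟨fun n => φ (Additive.ofMul (G n)),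
      fun n => by rw [← map_nsmul, hG0, hif], fun n => by rw [← map_nsmul, hG]⟩
    refine ⟨y, ?_⟩
    have hy : δ y = c := hκinj (by
      rw [hδ1]
      show D (φ (Additive.ofMul (G a))) = κ c
      rw [hDφ, mul_comm, mul_smul, hG0, ← map_nsmul, ← mul_smul, hq])
    exact congrArg Additive.ofMul (Subtype.ext (congrArg Additive.toMul hy))
  have e := (QuotientAddGroup.quotientAddEquivOfEq hkerδ.symm).trans
    (QuotientAddGroup.quotientKerEquivOfSurjective δ' hsurjδ)
  exact ⟨e⟩

end Groth.Agent.AbExt.TateCoker
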